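import Groth.Agent.Lib.CohDelta.FPApprox.Colim
import Groth.Agent.Lib.Modules.GenStalk

/-!
# A coproduct mapping onto a module of finite type: finitely many summands suffice
-/

set_option autoImplicit false
set_option linter.style.haveILetI false
universe u

open CategoryTheory CategoryTheory.Limits AlgebraicGeometry Opposite TopologicalSpace

namespace Groth.Agent.H81.ResEmbed.FiniteSub

open Groth.Agent.Lib Groth.Agent.Lib.Modules.StalkModule

noncomputable section

variable {X : Scheme.{u}} {κ : Type u} (P : κ → X.Modules) {M : X.Modules} (π : (∐ P) ⟶ M)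

/-- The restriction to finitely many summands. -/
def sub (s : Finset κ) : (∐ fun e : {e // e ∈ s} => P e.1) ⟶ M :=
  (Sigma.desc fun e : {e // e ∈ s} => Sigma.ι P e.1) ≫ π

theorem range_mono {s t : Finset κ} (h : s ⊆ t) (x : X) :
    LinearMap.range (stalkMapₗ (sub P π s) x) ≤ LinearMap.range (stalkMapₗ (sub P π t) x) := by
  have e : sub P π s = (Sigma.desc fun e : {e // e ∈ s} =>
      Sigma.ι (fun e : {e // e ∈ t} => P e.1) ⟨e.1, h e.2⟩) ≫ sub P π t := by
    refine Sigma.hom_ext _ _ fun e => ?_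
    rw [Sigma.ι_desc_assoc, sub, sub, Sigma.ι_desc_assoc, Sigma.ι_desc_assoc]
  rw [e, stalkMapₗ_comp]
  exact LinearMap.range_comp_le_range _ _

theorem exists_finset_epi [CompactSpace X] [Epi π] (hM : CohB1.IsFT M) :
    ∃ s : Finset κ, Epi (sub P π s) := by
  classical
  haveI : SheafOfModules.IsFiniteType (R := X.ringCatSheaf) M := hM
  have hsurj := (epi_iff_stalkMapₗ_surjective π).1 inferInstance
  have key : ∀ x : X, ∃ (W : X.Opens) (s : Finset κ), x ∈ W ∧
      ∀ y ∈ W, LinearMap.range (stalkMapₗ (sub P π s) y) = ⊤ := by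
    intro x
    obtain ⟨U, hxU, n, g, hg⟩ := Modules.GenStalk.exists_span_stalk_of_isFiniteType M x
    have hw : ∀ i : Fin n, ∃ (t : Finset κ) (V : X.Opens), x ∈ V ∧ V ≤ U ∧ ∀ (y : X) (hy : y ∈ V) (hyU : y ∈ U),
        M.presheaf.germ U y hyU (g i) ∈ LinearMap.range (stalkMapₗ (sub P π t) y) := by
      intro i
      obtain ⟨v, hv⟩ := hsurj x (M.presheaf.germ U x hxU (g i))
      obtain ⟨t, w, hw⟩ := CohDelta.FPApprox.Colim.exists_finite_subsum P x v
      obtain ⟨V₀, hxV₀, σ, rfl⟩ := (∐ fun e : {e // e ∈ t} => P e.1).presheaf.exists_germ_eq w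
      have he : M.presheaf.germ V₀ x hxV₀ ((sub P π t).app V₀ σ) = M.presheaf.germ U x hxU (g i) := by
        rw [← stalkMapₗ_germ (sub P π t) hxV₀ σ, sub, stalkMapₗ_comp, LinearMap.comp_apply, hw, hv]
      obtain ⟨V, hxV, i₁, i₂, heq⟩ := M.presheaf.germ_eq x hxV₀ hxU _ _ he
      refine ⟨t, V, hxV, i₂.le, fun y hy hyU => ?_⟩
      refine ⟨(∐ fun e : {e // e ∈ t} => P e.1).presheaf.germ V₀ y (i₁.le hy) σ, ?_⟩
      rw [stalkMapₗ_germ]
      have h1 := congrArg (M.presheaf.germ V y hy) heq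
      refine (Eq.trans ?_ h1).trans ?_
      · exact (TopCat.Presheaf.germ_res_apply M.presheaf i₁ y hy _).symm
      · exact TopCat.Presheaf.germ_res_apply M.presheaf i₂ y hy _
    choose t V hxV hVU hV using hw
    refine ⟨(Finset.univ.inf V) ⊓ U, Finset.univ.biUnion t, ⟨?_, hxU⟩, fun y hy => top_le_iff.1 ?_⟩
    · rw [SetLike.mem_coe, ← SetLike.mem_coe, Opens.coe_finset_inf]
      simpa using hxV
    · rw [← hg y hy.2, Submodule.span_le]
      rintro _ ⟨i, rfl⟩
      exact range_mono P π (Finset.subset_biUnion_of_mem t (Finset.mem_univ i)) y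
        (hV i y ((Finset.inf_le (Finset.mem_univ i) : Finset.univ.inf V ≤ V i) hy.1) hy.2)
  choose W s hW hs using key
  obtain ⟨Z, hZ⟩ := isCompact_univ.elim_finite_subcover (fun x => (W x : Set X)) (fun x => (W x).isOpen)
    fun x _ => Set.mem_iUnion.2 ⟨x, hW x⟩
  refine ⟨Z.biUnion s, (epi_iff_stalkMapₗ_surjective _).2 fun y => LinearMap.range_eq_top.1 (top_le_iff.1 ?_)⟩
  obtain ⟨x, hx, hy⟩ := Set.mem_iUnion₂.1 (hZ (Set.mem_univ y))
  exact (hs x y hy).ge.trans (range_mono P π (Finset.subset_biUnion_of_mem s hx) y)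

end

end Groth.Agent.H81.ResEmbed.FiniteSub
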