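import Groth.Agent.Lib.QCAlgPush.Basic
import Groth.Agent.Lib.SymAlg.Exists
import Groth.Agent.H81.VeryAmple.SymHom
import Groth.Agent.Lib.QCAlgSub.Sections
import Groth.Agent.Lib.QCoh.Closure
import Groth.Agent.Lib.ArtinFun.HomAffine
import Groth.Agent.Lib.ClSub.Basis
import Groth.Agent.Lib.CohBasics.Affine
import Mathlib.Algebra.TrivSqZeroExt.Basic
import Mathlib.AlgebraicGeometry.Morphisms.ClosedImmersion

/-!
# Closed immersions into relative spectra of symmetric algebras
-/

set_option autoImplicit false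
set_option linter.style.haveILetI false
universe u

open CategoryTheory CategoryTheory.Limits AlgebraicGeometry Opposite TopologicalSpace

namespace Groth.Agent.H81.ResEmbed.Spec

open Groth.Agent.Lib
open Groth.Agent.Lib.QCAlgSub.Basic (adj jm st)

noncomputable section

variable {X S : Scheme.{u}} {f : X ⟶ S}

theorem isAffineHom_π (A : RelSpec.QCAlg S) : IsAffineHom A.π := ⟨fun U hU => by
  rw [A.π_preimage U hU]
  exact isAffineOpen_opensRange (A.ι U hU)⟩

theorem appLE_preimage {Z : Scheme.{u}} {i : X ⟶ Z} {p : Z ⟶ S} (hi : i ≫ p = f) (U : S.Opens) :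
    i ⁻¹ᵁ (p ⁻¹ᵁ U) = f ⁻¹ᵁ U := by rw [← Scheme.Hom.comp_preimage, hi]

theorem surjective_app_iff (A : RelSpec.QCAlg S) [IsAffineHom f] (i : X ⟶ A.spec) (hi : i ≫ A.π = f) {U : S.Opens}
    (hle : f ⁻¹ᵁ U ≤ i ⁻¹ᵁ (A.π ⁻¹ᵁ U)) :
    Function.Surjective (i.appLE (A.π ⁻¹ᵁ U) (f ⁻¹ᵁ U) hle).hom ↔ Function.Surjective (i.app (A.π ⁻¹ᵁ U)).hom := by
  have h := appLE_preimage hi U
  revert hle
  rw [← h]
  intro hle
  rw [Scheme.Hom.app_eq_appLE]

/-- A surjection onto the direct image gives a closed immersion into the relative spectrum. -/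
theorem exists_closedImmersion [IsAffineHom f] {A : RelSpec.QCAlg S} (ψ : A ⟶ RelSpec.QCAlg.directImage f)
    (hψ : ∀ U : S.Opens, IsAffineOpen U → Function.Surjective (ψ.hom.app (op U)).hom) :
    ∃ i : X ⟶ A.spec, IsClosedImmersion i ∧ i ≫ A.π = f := by
  haveI := isAffineHom_π A
  obtain ⟨i, hi, he⟩ := QCAlgPush.ofHom_surjective (f := A.π) (g := f) ((QCAlgPush.gammaIso A).hom ≫ ψ)
  haveI : IsAffineHom (i ≫ A.π) := hi.symm ▸ ‹IsAffineHom f›
  haveI : IsAffineHom i := IsAffineHom.of_comp i A.π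
  refine ⟨i, ?_, hi⟩
  rw [IsZariskiLocalAtTarget.iff_of_iSup_eq_top (P := @IsClosedImmersion) (fun U : S.affineOpens => A.π ⁻¹ᵁ U.1)
    (by rw [← A.π.preimage_iSup, iSup_affineOpens_eq_top]; rfl)]
  intro U
  haveI : IsAffine (A.π ⁻¹ᵁ U.1 : Scheme.{u}) := U.2.preimage A.π
  refine (HasAffineProperty.iff_of_isAffine (P := @IsClosedImmersion)).2 ⟨(U.2.preimage A.π).preimage i, ?_⟩
  have hsurj : Function.Surjective (i.app (A.π ⁻¹ᵁ U.1)).hom := by
    rw [← surjective_app_iff A i hi (AffAlgBij.le_preimage i hi U.1), ← AffAlgBij.algHom_app i hi]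
    have h1 : AffAlg.algHom A.π f i hi = (QCAlgPush.gammaIso A).hom.hom ≫ ψ.hom :=
      congrArg RelSpec.QCAlg.Hom.hom he
    rw [h1]
    refine (hψ U.1 U.2).comp ?_
    haveI := RelSpecBasics.Gamma.isIso_gammaMap A
    exact (ConcreteCategory.bijective_of_isIso (A.gammaMap.app (op U.1))).2
  have key : ∀ (W : A.spec.Opens) (V : X.Opens) (e : op (i ⁻¹ᵁ W) ⟶ op V) [IsIso e], W = A.π ⁻¹ᵁ U.1 →
      Function.Surjective (i.app W ≫ X.presheaf.map e).hom := by
    rintro W V e _ rfl
    rw [CommRingCat.hom_comp, RingHom.coe_comp]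
    exact (ConcreteCategory.bijective_of_isIso (X.presheaf.map e)).2.comp hsurj
  rw [morphismRestrict_appTop]
  exact key _ _ _ (Scheme.Opens.ι_image_top _)

/-- A closed immersion into the relative spectrum gives a surjection onto the direct image. -/
theorem exists_surjective [IsAffineHom f] {A : RelSpec.QCAlg S} (i : X ⟶ A.spec) [IsClosedImmersion i]
    (hi : i ≫ A.π = f) :
    ∃ ψ : A ⟶ RelSpec.QCAlg.directImage f, ∀ U : S.Opens, IsAffineOpen U →
      Function.Surjective (ψ.hom.app (op U)).hom := by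
  haveI := isAffineHom_π A
  refine ⟨(QCAlgPush.gammaIso A).inv ≫ QCAlgPush.ofHom A.π f i hi, fun U hU => ?_⟩
  have hsurj : Function.Surjective (i.app (A.π ⁻¹ᵁ U)).hom := Scheme.Hom.app_surjective i _ (hU.preimage A.π)
  rw [← surjective_app_iff A i hi (AffAlgBij.le_preimage i hi U), ← AffAlgBij.algHom_app i hi] at hsurj
  refine hsurj.comp ?_
  haveI := RelSpecBasics.Gamma.isIso_gammaMap A
  exact (ConcreteCategory.bijective_of_isIso ((inv A.gammaMap).app (op U))).2

theorem finiteType_directImage [IsAffineHom f] [LocallyOfFiniteType f] (U : S.affineOpens) :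
    ((RelSpec.QCAlg.directImage f).str.app (op U.1)).hom.FiniteType := by
  have h := HasRingHomProperty.appLE @LocallyOfFiniteType f inferInstance U ⟨f ⁻¹ᵁ U.1, U.2.preimage f⟩ le_rfl
  rwa [← Scheme.Hom.app_eq_appLE] at h

/-- A generating map gives a surjection from the symmetric algebra. -/
theorem surjective_liftHom {E : S.Modules} [E.IsQuasicoherent] {B : RelSpec.QCAlg S} (φ : E ⟶ B.toModule)
    (hφ : ∀ U : S.Opens, IsAffineOpen U → adj B φ U = ⊤) (U : S.Opens) (hU : IsAffineOpen U) :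
    Function.Surjective ((SymAlg.Exists.liftHom E φ).hom.app (op U)).hom := by
  rw [← RingHom.range_eq_top, eq_top_iff, ← hφ U hU, adj, Subring.closure_le]
  rintro _ (⟨r, rfl⟩ | ⟨e, rfl⟩)
  · exact ⟨((SymAlg.Exists.alg E).str.app (op U)).hom r, congr(($((SymAlg.Exists.liftHom E φ).comm)).app (op U) r)⟩
  · exact ⟨(SymAlg.Exists.jmap E).app U e, congrArg (fun t => t.app U e) (SymAlg.Exists.jmap_liftHom E φ)⟩

theorem adj_comp_eq_top {E F : S.Modules} {B : RelSpec.QCAlg S} (π : E ⟶ F) (j : F ⟶ B.toModule) {U : S.Opens}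
    (hπ : Function.Surjective (π.app U)) (h : adj B j U = ⊤) : adj B (π ≫ j) U = ⊤ := by
  refine eq_top_iff.2 (h.ge.trans (Subring.closure_mono (Set.union_subset_union le_rfl ?_)))
  rintro _ ⟨e, rfl⟩
  obtain ⟨e', rfl⟩ := hπ e
  exact ⟨e', rfl⟩

theorem adj_id_eq_top (B : RelSpec.QCAlg S) (U : S.Opens) : adj B (𝟙 B.toModule) U = ⊤ :=
  eq_top_iff.2 fun b _ => Subring.subset_closure (Or.inr ⟨b, rfl⟩)

theorem finiteType_sym {M : S.Modules} [M.IsQuasicoherent] (hM : CohB1.IsFT M) (U : S.affineOpens) :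
    ((SymAlg.Exists.alg M).str.app (op U.1)).hom.FiniteType := by
  classical
  letI := SymAlg.Unique.algInst (SymAlg.Exists.alg M) U.1
  haveI : SheafOfModules.IsFiniteType (R := S.ringCatSheaf) M := hM
  haveI := CohBasics.Affine.finite_sections (M := M) U.2
  obtain ⟨G, hG⟩ := Module.Finite.fg_top (R := Γ(S, U.1)) (M := Γ(M, U.1))
  have hsym := SymAlg.Unique.isSymmetricAlgebra (SymAlg.Exists.isSymAlg M) U.2
  refine ⟨⟨G.image (SymAlg.Unique.jLin (SymAlg.Exists.alg M) (SymAlg.Exists.jmap M) U.1), ?_⟩⟩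
  refine eq_top_iff.2 fun a ha => ?_
  clear ha
  obtain ⟨x, rfl⟩ := hsym.equiv.surjective a
  induction x using SymmetricAlgebra.induction with
  | algebraMap r => rw [AlgEquiv.commutes]; exact Subalgebra.algebraMap_mem _ r
  | ι e =>
    rw [IsSymmetricAlgebra.equiv_apply, SymmetricAlgebra.lift_ι_apply]
    refine Algebra.span_le_adjoin _ _ ?_
    rw [Finset.coe_image, ← Submodule.map_span, hG]
    exact ⟨e, trivial, rfl⟩
  | mul a b ha hb => rw [map_mul]; exact mul_mem ha hb
  | add a b ha hb => rw [map_add]; exact add_mem ha hb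

/-- A surjection of symmetric algebras onto `Sym M` gives an epimorphism onto `M`. -/
theorem exists_epi {E M : S.Modules} [E.IsQuasicoherent] [M.IsQuasicoherent] {A : RelSpec.QCAlg S}
    {j : E ⟶ A.toModule} (hA : RelSpec.IsSymAlg E A j) (ψ : A ⟶ SymAlg.Exists.alg M)
    (hψ : ∀ U : S.Opens, IsAffineOpen U → Function.Surjective (ψ.hom.app (op U)).hom) :
    ∃ π : E ⟶ M, Epi π := by
  let B := SymAlg.Exists.alg M
  letI : ∀ V : S.Opens, Module (Γ(S, V))ᵐᵒᵖ Γ(M, V) :=
    fun V => Module.compHom _ (RingHom.fromOpposite (RingHom.id Γ(S, V)) fun _ _ => mul_comm _ _)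
  haveI : ∀ V : S.Opens, IsCentralScalar Γ(S, V) Γ(M, V) := fun V => ⟨fun _ _ => rfl⟩
  have hp : ∀ U : S.affineOpens, ∃ p : B.presheaf.obj (op U.1) →+* TrivSqZeroExt Γ(S, U.1) Γ(M, U.1),
      (∀ r, p ((B.str.app (op U.1)).hom r) = TrivSqZeroExt.inl r) ∧
      ∀ m : Γ(M, U.1), p ((SymAlg.Exists.jmap M).app U.1 m) = TrivSqZeroExt.inr m := by
    intro U
    letI := SymAlg.Unique.algInst B U.1
    have hsym := SymAlg.Unique.isSymmetricAlgebra (SymAlg.Exists.isSymAlg M) U.2
    exact ⟨(hsym.lift (TrivSqZeroExt.inrHom Γ(S, U.1) Γ(M, U.1))).toRingHom,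
      fun r => (hsym.lift (TrivSqZeroExt.inrHom Γ(S, U.1) Γ(M, U.1))).commutes r,
      fun m => hsym.lift_eq (TrivSqZeroExt.inrHom Γ(S, U.1) Γ(M, U.1)) m⟩
  choose p hp0 hp1 using hp
  let res : ∀ {U V : S.Opens}, V ≤ U → (TrivSqZeroExt Γ(S, U) Γ(M, U) →+* TrivSqZeroExt Γ(S, V) Γ(M, V)) :=
    fun {U V} i =>
    { toFun := fun z => TrivSqZeroExt.inl ((S.presheaf.map (homOfLE i).op).hom z.fst) +
        TrivSqZeroExt.inr (M.presheaf.map (homOfLE i).op z.snd)
      map_one' := by ext <;> simp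
      map_mul' := fun a b => by
        ext
        · simp
        · simp [Scheme.Modules.map_smul]
      map_zero' := by ext <;> simp
      map_add' := fun a b => by ext <;> simp }
  have hnat : ∀ (U V : S.affineOpens) (i : V.1 ≤ U.1) a,
      res i (p U a) = p V ((B.presheaf.map (homOfLE i).op).hom a) := fun U V i => by
    refine RingHom.congr_fun (H81.VeryAmple.SymHom.ringHom_ext (SymAlg.Exists.isSymAlg M) U.2
      ((res i).comp (p U)) ((p V).comp (B.presheaf.map (homOfLE i).op).hom) (fun r => ?_) fun m => ?_)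
    · change res i (p U _) = p V ((B.presheaf.map (homOfLE i).op).hom _)
      rw [hp0, show (B.presheaf.map (homOfLE i).op).hom ((B.str.app (op U.1)).hom r) =
        (B.str.app (op V.1)).hom ((S.presheaf.map (homOfLE i).op).hom r) from
          congr($(B.str.naturality (homOfLE i).op) r).symm, hp0]
      ext <;> simp [res]
    · change res i (p U _) = p V ((B.presheaf.map (homOfLE i).op).hom _)
      rw [hp1, show (B.presheaf.map (homOfLE i).op).hom ((SymAlg.Exists.jmap M).app U.1 m) =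
        (SymAlg.Exists.jmap M).app V.1 (M.presheaf.map (homOfLE i).op m) from
          (QCoh.Localizing.res_app (SymAlg.Exists.jmap M) i m), hp1]
      ext <;> simp [res]
  let d : ∀ U : S.affineOpens, Γ(E, U.1) →+ Γ(M, U.1) := fun U =>
    AddMonoidHom.mk' (fun e => (p U ((ψ.hom.app (op U.1)).hom (jm A j U.1 e))).snd) fun a b => by
      rw [show jm A j U.1 (a + b) = jm A j U.1 a + jm A j U.1 b from
        map_add (j.app U.1).hom a b, map_add, map_add, TrivSqZeroExt.snd_add]
  obtain ⟨π, hπ⟩ := ArtinFun.HomAffine.exists_hom_of_affine d (fun U r e => by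
    change (p U ((ψ.hom.app (op U.1)).hom (jm A j U.1 (r • e)))).snd = r • _
    rw [show jm A j U.1 (r • e) = (A.str.app (op U.1)).hom r * jm A j U.1 e from
      Scheme.Modules.Hom.app_smul j r e, map_mul, map_mul,
      show (ψ.hom.app (op U.1)).hom ((A.str.app (op U.1)).hom r) = (B.str.app (op U.1)).hom r from
        congr(($(ψ.comm)).app (op U.1) r), hp0]
    simp [d]) (fun U V i e => by
    change M.presheaf.map (homOfLE i).op (p U _).snd = (p V _).snd
    rw [show jm A j V.1 (E.presheaf.map (homOfLE i).op e) =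
      (A.presheaf.map (homOfLE i).op).hom (jm A j U.1 e) from (QCoh.Localizing.res_app j i e).symm,
      show (ψ.hom.app (op V.1)).hom ((A.presheaf.map (homOfLE i).op).hom (jm A j U.1 e)) =
        (B.presheaf.map (homOfLE i).op).hom ((ψ.hom.app (op U.1)).hom (jm A j U.1 e)) from
          congr($(ψ.hom.naturality (homOfLE i).op) (jm A j U.1 e)), ← hnat U V i]
    simp [res])
  refine ⟨π, ClSub.Basis.epi_of_surjective_affine π fun U m => ?_⟩
  obtain ⟨a, ha⟩ := hψ U.1 U.2 ((SymAlg.Exists.jmap M).app U.1 m)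
  letI := SymAlg.Unique.algInst A U.1
  have hsym := SymAlg.Unique.isSymmetricAlgebra hA U.2
  have key : ∀ x, ∃ e, π.app U.1 e = (p U ((ψ.hom.app (op U.1)).hom x)).snd := fun x => by
    obtain ⟨y, rfl⟩ := hsym.equiv.surjective x
    induction y using SymmetricAlgebra.induction with
    | algebraMap r =>
      refine ⟨0, ?_⟩
      rw [AlgEquiv.commutes, show (ψ.hom.app (op U.1)).hom (algebraMap Γ(S, U.1) _ r) = (B.str.app (op U.1)).hom r from
        congr(($(ψ.comm)).app (op U.1) r), hp0, TrivSqZeroExt.snd_inl, map_zero]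
    | ι e =>
      refine ⟨e, ?_⟩
      rw [IsSymmetricAlgebra.equiv_apply, SymmetricAlgebra.lift_ι_apply]
      exact hπ U e
    | mul a b ha hb =>
      obtain ⟨e, he⟩ := ha
      obtain ⟨e', he'⟩ := hb
      refine ⟨(p U ((ψ.hom.app (op U.1)).hom (hsym.equiv a))).fst • e' +
        (p U ((ψ.hom.app (op U.1)).hom (hsym.equiv b))).fst • e, ?_⟩
      rw [map_add, Scheme.Modules.Hom.app_smul, Scheme.Modules.Hom.app_smul, he, he', map_mul, map_mul, map_mul,
        TrivSqZeroExt.snd_mul, op_smul_eq_smul]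
    | add a b ha hb =>
      obtain ⟨e, he⟩ := ha
      obtain ⟨e', he'⟩ := hb
      exact ⟨e + e', by rw [map_add, map_add, map_add, map_add, TrivSqZeroExt.snd_add, he, he']⟩
  obtain ⟨e, he⟩ := key a
  refine ⟨e, he.trans ?_⟩
  rw [ha, hp1, TrivSqZeroExt.snd_inr]

end

end Groth.Agent.H81.ResEmbed.Spec
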